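import Cfsg.Agent.MK.GO.Witt
import Cfsg.Agent.MK.S.Congr
import Cfsg.Agent.ODD.PW.Rows
import Cfsg.Agent.ODD.Cov.Fam
import Cfsg.Agent.H803.RowOmega

/-!
# MK: the rows `podd plus minus`, `q` odd, from the generic theorem (helper19)

`row_podd` (the triple cover of `Ω₇(3)` is a hypothesis), `row_plus`, `row_minus`.
-/

set_option autoImplicit false
set_option linter.unusedSectionVars false

namespace Cfsg.Agent.MK.GO

open Cfsg Cfsg.Agent.Nodes Cfsg.Agent.Nodes.BNOf Cfsg.Agent.H69.OQ Cfsg.Agent.Nodes.WittAll Cfsg.Agent.MK.G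
  Cfsg.Agent.ODD Cfsg.Agent.ODD.PW Cfsg.Agent.ODD.Cv
open Cfsg.Agent.TitsThree Cfsg.Agent.TitsThree.Siegel Cfsg.Agent.TitsThree.WittFrame Cfsg.Agent.TitsThree.FrameCN
open Cfsg.Agent.Nodes.WittRoot (Amb)

attribute [local instance] finB finD

/-- self-normalising Sylow `2`-subgroups -/
def SN (K : Type) [Group K] : Prop := ∀ Q : Sylow 2 K, Subgroup.normalizer ((Q : Subgroup K) : Set K) ≤ Q

theorem ce_iso {X S : Type} [Group X] [Finite X] [Group S] [Finite S] (e : X ≃* S) (p : ℕ) : CE p e.toMonoidHom := by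
  have h : e.toMonoidHom.ker = ⊥ := (MonoidHom.ker_eq_bot_iff _).2 e.injective
  exact ⟨e.surjective, h ▸ bot_le, by rw [h, Subgroup.card_bot]; exact Nat.coprime_one_left p,
    by rw [h, Subgroup.card_bot]; exact odd_one⟩

theorem gd_model (hm : MainC) {F : Type} [Field F] [Fintype F] {V : Type} [AddCommGroup V] [Module F V] [Finite V]
    {H : HForm F V} {n : ℕ} {Fr : Frame H (Fin (n + 2))} {K : Type} [Group K] [Finite K] (M : Model Fr K)
    (hA : Amb Fr M.I) (hn : 3 ≤ n + 2) (hF : Odd (Fintype.card F)) (hσ : ∀ x, H.σ x = x) (hε : H.ε = 1) {p : ℕ}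
    [Fact p.Prime] [CharP F p] (hp2 : p ≠ 2) {p0 : Fr.Adm} (hp0 : p0.c ≠ 0) (o : PW.Out (PW.rgdC M hA p hp0)) {e : ℕ}
    (he : Nat.card Fr.Adm = Nat.card F ^ e) (hs : SN K)
    {X : Type} [Group X] [Finite X] [IsSimpleGroup X] (f : X ≃* K) {Γ : Subgroup (MulAut X)} (s : Sit X Γ) :
    Gd X Γ := by
  have := f.symm.isSimpleGroup
  have : Finite (V ≃ₗ[F] V) := Finite.of_injective (fun g : V ≃ₗ[F] V => (g : V → V)) DFunLike.coe_injective
  obtain ⟨_, _, _, C⟩ := o.cor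
  obtain ⟨β, D, hAu⟩ := gd_C Fact.out hp2 (by rwa [Nat.card_eq_fintype_card]) hσ hε hs hn (PW.rgdC M hA p hp0) (topC M)
    (fun x hx => (CardSup.card_map_X (RGDLib.rgd_restrict (WittAll.rgdC (AmbT.of_amb hA p) hp0 _) M.I
      (fun x _ => hA.rg_le x) fun i => WittRGD.nn_mem hA p0 i) M.φ (WittModel.ker_le_center M hA) hx).trans
        (Nat.card_congr (Subgroup.subgroupOfEquivOfLe (hA.rg_le x)).toEquiv)) he
  exact hm _ β D hAu C.comm (nofix_orth M _ hA hn (two_ne_of_odd hF) hσ hε) X _ (ce_iso f p) Γ s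

open Cfsg.Agent.Nodes.WittU Cfsg.Agent.Nodes.WittInst Cfsg.Agent.TitsThree.SiegelGen Cfsg.Agent.TitsThree.WBridge
open Cfsg.Agent.LieClassical Cfsg.Agent.LieClassical.OrthCore Cfsg.Agent.LieClassical.OrthTrans
open Cfsg.Agent.LieClassical.OrthSimple Cfsg.Agent.LieClassical.OrthFinite Cfsg.Agent.LieClassical.OrthForms
open Cfsg.Agent.TitsThree.KSideO Cfsg.Agent.TitsThree.StdData

theorem card_adm {κ : Type} [Fintype κ] [DecidableEq κ] {F : Type} [Field F] {Q : QuadraticForm F (κ → F)} {m : ℕ}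
    (W : WFrame (PO Q) m) : Nat.card (toFrame W).Adm = Nat.card W.V0 :=
  Nat.card_congr ⟨fun q => ⟨q.w, q.ok.1⟩, fun w => ⟨w, -Q w, w.2, rfl⟩, fun q => Frame.Adm.ext rfl q.ok.2.symm,
    fun _ => rfl⟩

variable {F : Type} [Field F] [Fintype F]

theorem adm_odd (m : ℕ) : Nat.card (toFrame (wodd m F)).Adm = Nat.card F ^ 1 := by
  rw [card_adm, show Nat.card F ^ 1 = Nat.card (Unit → F) by simp]
  exact Nat.card_congr ⟨fun w => w.1 ∘ Sum.inl, fun u => ⟨Sum.elim u 0, fun _ => rfl⟩,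
    fun w => Subtype.ext (funext fun j => by cases j; exacts [rfl, (w.2 _).symm]), fun _ => rfl⟩

theorem adm_minus (m : ℕ) {a b : F} (hab : ∀ z₁ z₂ : F, z₁ ^ 2 + a * z₁ * z₂ + b * z₂ ^ 2 = 0 → z₁ = 0 ∧ z₂ = 0) :
    Nat.card (toFrame (wminus m F a b hab)).Adm = Nat.card F ^ 2 := by
  rw [card_adm, show Nat.card F ^ 2 = Nat.card (Fin 2 → F) by simp]
  exact Nat.card_congr ⟨fun w => w.1 ∘ Sum.inr, fun u => ⟨Sum.elim 0 u, fun _ => rfl⟩,
    fun w => Subtype.ext (funext fun j => by cases j; exacts [(w.2 _).symm, rfl]), fun _ => rfl⟩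

variable (hm : MainC)

include hm

theorem gd_podd {X : Type} [Group X] [Finite X] [IsSimpleGroup X] (h : IsPOmegaOdd X) {Γ : Subgroup (MulAut X)}
    (s : Sit X Γ) : Gd X Γ := by
  obtain ⟨F, _, _, m, h3, hF, he⟩ := h
  have hs := H803.RowOmega.self_odd hF m h3
  obtain ⟨n, rfl⟩ : ∃ n, m = n + 2 := ⟨m - 2, by omega⟩
  obtain ⟨p, _, _, hp2, h2⟩ := exists_char F hF
  replace he : Nonempty (X ≃* POmega F (quadFormOdd (n + 2) F)) ∧ SN (POmega F (quadFormOdd (n + 2) F)) := ⟨he, hs⟩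
  rw [← coe_oddForm] at he
  obtain ⟨⟨e⟩, hs⟩ := he
  have := Finite.of_equiv _ e.toEquiv
  exact gd_model hm (model (wodd (n + 2) F) (good_odd n h2) ⟨_, hp_odd _⟩) (amb_O_of_two _ h2) h3 hF (fun _ => rfl) rfl
    hp2 (hp_odd _) (out_podd n p h2) (adm_odd _) hs e s

/-- **`PΩ_{2m+1}(q)`** -/
theorem row_podd (hs : StepSm)
    (h3 : ∀ (F : Type) [Field F] [Fintype F], Fintype.card F = 3 → S.SmC (POmega F (quadFormOdd 3 F))) :
    Row fun S _ => IsPOmegaOdd S := by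
  intro X _ _ c Γ s
  rcases podd_cases c with ⟨_, h⟩ | c'
  · exact gd_podd hm h s
  obtain ⟨F, _, _, hF, ⟨e⟩⟩ := c'.fam
  have h1 : Nat.card (Subgroup.center X) ∣ 3 :=
    (Nat.coprime_two_right.2 c.odd).dvd_of_dvd_mul_left (card_center_dvd c ((mb_o73 hF).congr e))
  rcases (Nat.dvd_prime Nat.prime_three).1 h1 with h2 | h2
  · have hZ := Subgroup.card_eq_one.1 h2
    have := simple_of c hZ
    exact gd_podd hm (iso_podd _ _ (eqv hZ) c.fam) s
  · exact S.gd_of_card hs s e h2 (h3 F hF)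

/-- **`PΩ⁻_{2m}(q)`** -/
theorem row_minus : Row MinusO := by
  intro X _ _ c Γ s
  obtain ⟨_, F, _, _, m, a, b, hF, h4, hab, he⟩ := plain_minus X c
  have hs := H803.RowOmega.self_minus hF m h4 a b hab
  obtain ⟨n, rfl⟩ : ∃ n, m = n + 2 + 1 := ⟨m - 3, by omega⟩
  obtain ⟨p, _, _, hp2, h2⟩ := exists_char F hF
  replace he : Nonempty (X ≃* POmega F (quadFormMinus (n + 2) F a b)) ∧ SN (POmega F (quadFormMinus (n + 2) F a b)) :=
    ⟨he, hs⟩
  rw [← coe_minusForm] at he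
  obtain ⟨⟨e⟩, hs⟩ := he
  have := Finite.of_equiv _ e.toEquiv
  exact gd_model hm (model (wminus (n + 2) F a b hab) (good_minus hab n) ⟨_, hp_minus hab _⟩) (amb_O_of_two _ h2)
    (by omega) hF (fun _ => rfl) rfl hp2 (hp_minus hab _) (out_minus hab hF n p) (adm_minus _ hab) hs e s

/-- **`PΩ⁺_{2m}(q)`** -/
theorem row_plus : Row PlusO := by
  intro X _ _ c Γ s
  obtain ⟨_, F, _, _, m, hF, h4, he⟩ := plain_plus X c
  have hs := H803.RowOmega.self_plus hF m h4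
  obtain ⟨n, rfl⟩ : ∃ n, m = n + 3 := ⟨m - 3, by omega⟩
  obtain ⟨p, _, _, hp2, h2⟩ := exists_char F hF
  replace he : Nonempty (X ≃* POmega F (quadFormPlus (n + 3) F)) ∧ SN (POmega F (quadFormPlus (n + 3) F)) := ⟨he, hs⟩
  rw [← coe_plusForm] at he
  obtain ⟨⟨e⟩, hs⟩ := he
  have := Finite.of_equiv _ e.toEquiv
  have := e.symm.isSimpleGroup
  have : Finite ((Fin (n + 3) ⊕ Fin (n + 3) → F) ≃ₗ[F] (Fin (n + 3) ⊕ Fin (n + 3) → F)) :=
    Finite.of_injective (fun g => (g : _ → _)) DFunLike.coe_injective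
  obtain ⟨_, _, _, C⟩ := (out_plus (F := F) n p).cor
  obtain ⟨β, D, hAu⟩ := gd_D Fact.out hp2 (by rwa [Nat.card_eq_fintype_card]) (fun _ => rfl) rfl hs (rgd_plus n p)
    (top_plus n) fun x hx => (CardSup.card_map_X (RGDLib.rgd_restrict (rgdD (amb_plus _) (adm_plus _) (p := p) _) _
      (fun x _ => rgD_le (wplus (n + 3) F) (amb_plus _) x) fun i => WittRGDD.nn_mem (amb_plus _) i) _
        (ker_toPOmega _) hx).trans
      (Nat.card_congr (Subgroup.subgroupOfEquivOfLe (rgD_le (wplus (n + 3) F) (amb_plus _) x)).toEquiv)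
  exact hm _ β D hAu C.comm (nofix_plus n p h2) X _ (ce_iso e p) Γ s

end Cfsg.Agent.MK.GO
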