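import Cfsg.Agent.MK.G.Weyl
import Cfsg.Agent.Nodes.TypeD

/-!
# MK, orthogonal rows: the frame `ε_i ± ε_{i'}` (helper19)

`pn` (the partner), `fr` (the frame in coordinates), `key`; `weyl_C`, `all_D`.
-/

set_option autoImplicit false
set_option linter.unusedSectionVars false

namespace Cfsg.Agent.MK.GO

open CoxeterSystem Cfsg.Agent.ChevalleyStructure.CoxeterGeom Cfsg.Agent.Tits.Roots Cfsg.Agent.Nodes.Reps
  Cfsg.Agent.Nodes.BNOf Cfsg.Agent.Nodes Cfsg.Agent.MK.G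
open Cfsg.Agent.Nodes.TypeC (wt ng wt_ng)

section crd

variable {r : ℕ}

/-- the partner of an index -/
def pn (i : Fin r) : Fin r :=
  if h : (if (i : ℕ) % 2 = 0 then (i : ℕ) + 1 else i - 1) < r then ⟨_, h⟩ else i

theorem pn_val (i : Fin r) :
    (pn i : ℕ) = if (i : ℕ) % 2 = 0 then (if (i : ℕ) + 1 < r then (i : ℕ) + 1 else i) else i - 1 := by
  have := i.2
  unfold pn
  split_ifs <;> first | rfl | omega

theorem pn_pn (i : Fin r) : pn (pn i) = i := by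
  have := i.2
  have h1 := pn_val i
  have h2 := pn_val (pn i)
  apply Fin.ext
  split_ifs at h1 h2 <;> omega

theorem pn_eq_iff {i : Fin r} : pn i = i ↔ (i : ℕ) % 2 = 0 ∧ (i : ℕ) + 1 = r := by
  have := i.2
  have h1 := pn_val i
  rw [Fin.ext_iff]
  split_ifs at h1 <;> omega

theorem pn_uniq {i j : Fin r} (hi : pn i = i) (hj : pn j = j) : i = j := by
  rw [pn_eq_iff] at hi hj
  exact Fin.ext (by omega)

theorem pn_par {i : Fin r} (hi : pn i ≠ i) : (pn i : ℕ) % 2 = 0 ↔ ¬ (i : ℕ) % 2 = 0 := by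
  have h1 := pn_val i
  rw [Ne, Fin.ext_iff] at hi
  split_ifs at h1 <;> omega

/-- the second index -/
def f2 (i : Fin r) : Fin r × Bool := (pn i, decide ((i : ℕ) % 2 = 0))

/-- the frame -/
def fr (i : Fin r) : Fin r → ℤ := wt (i, true) + wt (f2 i)

theorem f2_self {i : Fin r} (hi : pn i = i) : f2 i = (i, true) :=
  Prod.ext hi (decide_eq_true (pn_eq_iff.1 hi).1)

theorem ok_fr (i : Fin r) : TypeC.Ok (i, true) (f2 i) :=
  (em (pn i = i)).symm.imp Ne.symm fun h => (f2_self h).symm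

theorem wt_dot (a : Fin r × Bool) (u : Fin r → ℤ) : wt a ⬝ᵥ u = if a.2 then u a.1 else -u a.1 := by
  rw [wt, single_dotProduct]
  split_ifs <;> simp

theorem wt_wt (a b : Fin r × Bool) :
    wt a ⬝ᵥ wt b = if a.1 = b.1 then (if a.2 = b.2 then 1 else -1) else 0 := by
  rw [wt_dot, TypeC.wt_apply]
  obtain ⟨i, _ | _⟩ := a <;> obtain ⟨j, _ | _⟩ := b <;> split_ifs <;> simp_all

theorem nrm_two {a b : Fin r × Bool} (h : a.1 ≠ b.1) : (wt a + wt b) ⬝ᵥ (wt a + wt b) = 2 := by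
  simp [wt_wt, h, h.symm]

theorem nrm_four (a : Fin r × Bool) : (wt a + wt a) ⬝ᵥ (wt a + wt a) = 4 := by simp [wt_wt]

theorem fr_two {i : Fin r} (hi : pn i ≠ i) : fr i ⬝ᵥ fr i = 2 := nrm_two (a := (i, true)) (b := f2 i) hi.symm

theorem fr_four {i : Fin r} (hi : pn i = i) : fr i ⬝ᵥ fr i = 4 := by rw [fr, f2_self hi, nrm_four]

theorem fr_dot {i j : Fin r} (hi : pn i = i) (hj : pn j ≠ j) : fr j ⬝ᵥ fr i = 0 := by
  have h1 : j ≠ i := fun h => hj (h ▸ hi)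
  have h2 : pn j ≠ i := fun h => h1 (by rw [← pn_pn j, h, hi])
  simp [fr, wt_wt, f2, h1, h2, hi, pn_eq_iff.1 hi]

theorem fr_wt {a : Fin r × Bool} (h : pn a.1 ≠ a.1) : fr a.1 ⬝ᵥ (wt a + wt a) ≠ 0 := by
  rw [fr, add_dotProduct, dotProduct_add, dotProduct_add, wt_wt, wt_wt, if_pos rfl, if_neg (show (f2 a.1).1 ≠ a.1 from h)]
  split_ifs <;> decide

theorem key1 {i : Fin r} (hi : pn i ≠ i) (h0 : (i : ℕ) % 2 = 0) (s t : Bool) :
    ∃ j, pn j ≠ j ∧ (wt (i, s) + wt (pn i, t) = fr j ∨ wt (i, s) + wt (pn i, t) = -fr j) := by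
  have h1 : fr i = wt (i, true) + wt (pn i, true) := by rw [fr, f2, decide_eq_true h0]
  have h2 : fr (pn i) = wt (pn i, true) + wt (i, false) := by
    rw [fr, f2, pn_pn, decide_eq_false fun h => (pn_par hi).1 h h0]
  have h3 : pn (pn i) ≠ pn i := by rw [pn_pn]; exact hi.symm
  have h4 : ∀ j : Fin r, wt (j, false) = -wt (j, true) := fun j => wt_ng (j, true)
  cases s <;> cases t
  · exact ⟨i, hi, Or.inr (by rw [h1, h4, h4, neg_add])⟩
  · exact ⟨_, h3, Or.inl (by rw [h2, add_comm])⟩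
  · exact ⟨_, h3, Or.inr (by rw [h2, h4, h4]; abel)⟩
  · exact ⟨i, hi, Or.inl h1.symm⟩

theorem key2 {a b : Fin r × Bool} (h : a.1 ≠ b.1) (h1 : pn a.1 ≠ a.1) (h2 : pn a.1 ≠ b.1) :
    (wt a + wt b) ⬝ᵥ fr a.1 = 1 ∨ (wt a + wt b) ⬝ᵥ fr a.1 = -1 := by
  obtain ⟨i, _ | _⟩ := a <;> simp [fr, wt_wt, f2, h.symm, h1.symm, h2.symm]

/-- a short root is in the frame or has the angle `π / 3` or `2 π / 3` with a root of the frame -/
theorem key {a b : Fin r × Bool} (h : a.1 ≠ b.1) :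
    (∃ j, pn j ≠ j ∧ (wt a + wt b = fr j ∨ wt a + wt b = -fr j)) ∨
      ∃ j, pn j ≠ j ∧ ((wt a + wt b) ⬝ᵥ fr j = 1 ∨ (wt a + wt b) ⬝ᵥ fr j = -1) := by
  by_cases h1 : pn a.1 = b.1
  · left
    have h2 : pn a.1 ≠ a.1 := by rw [h1]; exact h.symm
    by_cases h0 : (a.1 : ℕ) % 2 = 0
    · have h3 := key1 h2 h0 a.2 b.2
      rwa [h1] at h3
    · have h3 := key1 (i := pn a.1) (by rw [pn_pn]; exact h2.symm) ((pn_par h2).2 h0) b.2 a.2
      rwa [pn_pn, h1, add_comm] at h3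
  · right
    by_cases h2 : pn a.1 = a.1
    · have h3 : pn b.1 ≠ b.1 := fun h4 => h (pn_uniq h2 h4)
      rw [add_comm]
      exact ⟨_, h3, key2 h.symm h3 fun h4 => h1 (by rw [← h4, pn_pn])⟩
    · exact ⟨_, h2, key2 h h2 h1⟩

end crd

variable {W Y : Type} [Group W] [Finite W] [Group Y] [Finite Y] {p : ℕ} {T : Subgroup Y}

section C

open Cfsg.Agent.Nodes.TypeC

variable {r : ℕ} {cs : CoxeterSystem (CoxeterMatrix.B r) W} {n : Fin r → Y} {X : (Fin r → ℤ) → Subgroup Y}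
  {R : RGD cs (isCartan r) p T n X} {β : Fin r → Fin r → ℤ}

theorem subC (x y z : Fin r → ℤ) (c : ℤ) : ee x ⬝ᵥ ee (y - c • z) = ee x ⬝ᵥ ee y - c * (ee x ⬝ᵥ ee z) := by
  rw [sub_eq_add_neg, ee_add, ee_neg, ee_smul, dotProduct_add, dotProduct_neg, dotProduct_smul, sub_eq_add_neg,
    smul_eq_mul]

theorem invC (i : Fin r) (y : Fin r → ℤ) :
    ee (sr i) ⬝ᵥ ee (sr i) * pairing (A r) i y = 2 * (ee (sr i) ⬝ᵥ ee y) := by
  rw [← Cf_ee, ee_sr, bt, nx, Cf]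
  split_ifs with h
  · rw [nrm_two (by simp [Fin.ext_iff]), add_dotProduct, wt_dot, wt_dot]
    simp [sub_eq_add_neg]
  · rw [nrm_four, add_dotProduct, wt_dot]
    simp only [if_true]
    ring

variable (cs) in
theorem exists_C : ∃ β : Fin r → Fin r → ℤ, ∀ i, IsRoot cs (isCartan r) (β i) ∧ ee (β i) = fr i := by
  choose β h using fun i : Fin r => rt_of_ok (cs := cs) (ok_fr i)
  exact ⟨β, h⟩

/-- **types `B`, `C`** -/
theorem weyl_C (F : F1 R β) (hβ : ∀ i, ee (β i) = fr i) :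
    ∃ S : Sylow 2 W, Subgroup.normalizer ((S : Subgroup W) : Set W) ≤ WD cs (isCartan r) β := by
  have hB : ∀ (w : W) x y, ee (rep cs (isCartan r) w x) ⬝ᵥ ee (rep cs (isCartan r) w y) = ee x ⬝ᵥ ee y :=
    B_rep (B := fun x y => ee x ⬝ᵥ ee y) (fun _ _ => dotProduct_comm _ _) subC invC
  have hO : ∀ x y, ee x ⬝ᵥ ee x = 2 → ee y ⬝ᵥ ee y = 2 → (ee x ⬝ᵥ ee y = 1 ∨ ee x ⬝ᵥ ee y = -1) →
      Od cs (isCartan r) x y := fun x y h1 h2 h3 =>
    od_of_B (B := fun x y => ee x ⬝ᵥ ee y) (fun _ _ => dotProduct_comm _ _) subC invC (by simp [h1])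
      (by simp [h1, h2]) (by simp only [h1]; omega)
  have hK : ∀ x, IsRoot cs (isCartan r) x → ee x ⬝ᵥ ee x = 2 → (∃ j, pn j ≠ j ∧ (x = β j ∨ x = -β j)) ∨
      ∃ j, pn j ≠ j ∧ (ee x ⬝ᵥ ee (β j) = 1 ∨ ee x ⬝ᵥ ee (β j) = -1) := fun x hx h1 => by
    obtain ⟨a, b, h2 | rfl, e⟩ := exists_of_isRoot cs hx
    · simp only [hβ, e]
      exact (key h2).imp_left fun h => h.imp fun j hj => ⟨hj.1, hj.2.imp
        (fun h3 => ee_injective (by rw [e, h3, hβ])) fun h3 => ee_injective (by rw [e, h3, ee_neg, hβ])⟩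
    · rw [e, nrm_four] at h1
      exact absurd h1 (by decide)
  refine F.weyl_of_od fun w hw => ?_
  obtain ⟨i, hi⟩ := not_forall.1 hw
  by_cases h1 : pn i = i
  · obtain ⟨a, b, h2 | rfl, e⟩ := exists_of_isRoot cs ((F.root i).act w)
    · have h3 := hB w (β i) (β i)
      rw [e, nrm_two h2, hβ, fr_four h1] at h3
      exact absurd h3 (by decide)
    have h2 : pn a.1 ≠ a.1 := fun h2 => hi ⟨i, by
      obtain ⟨j, s⟩ := a
      obtain rfl : j = i := pn_uniq h2 h1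
      cases s
      · exact Or.inr (ee_injective (by rw [e, ee_neg, hβ, fr, f2_self h1, neg_add, ← wt_ng]; rfl))
      · exact Or.inl (ee_injective (by rw [e, hβ, fr, f2_self h1]))⟩
    have h3 : ee (β a.1) ⬝ᵥ ee (β a.1) = 2 := by rw [hβ, fr_two h2]
    have h4 := hB w (rep cs (isCartan r) w⁻¹ (β a.1)) (β i)
    rw [rep_apply_inv, e, hβ a.1, hβ i] at h4
    rcases hK _ ((F.root a.1).act w⁻¹) (by rw [hB, h3]) with ⟨j, hj, h5⟩ | ⟨j, hj, h5⟩
    · have h6 : fr a.1 ⬝ᵥ (wt a + wt a) = 0 := by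
        rcases h5 with h5 | h5
        · rw [h4, h5, hβ, fr_dot h1 hj]
        · rw [h4, h5, ee_neg, hβ, neg_dotProduct, fr_dot h1 hj, neg_zero]
      exact absurd h6 (fr_wt h2)
    · rw [← hB w, rep_apply_inv, dotProduct_comm] at h5
      exact ⟨j, a.1, hO _ _ (by rw [hB, hβ, fr_two hj]) h3 h5⟩
  · have h3 : ee (rep cs (isCartan r) w (β i)) ⬝ᵥ ee (rep cs (isCartan r) w (β i)) = 2 := by rw [hB, hβ, fr_two h1]
    rcases hK _ ((F.root i).act w) h3 with ⟨j, -, h5⟩ | ⟨j, hj, h5⟩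
    · exact absurd ⟨j, h5⟩ hi
    · exact ⟨i, j, hO _ _ h3 (by rw [hβ, fr_two hj]) h5⟩

end C

section D

open Cfsg.Agent.Nodes.TypeD

variable {r : ℕ} {cs : CoxeterSystem (M r) W} {β : {i : Fin (r + 2) // pn i ≠ i} → Fin (r + 2) → ℤ}

theorem subD (x y z : Fin (r + 2) → ℤ) (c : ℤ) : ee x ⬝ᵥ ee (y - c • z) = ee x ⬝ᵥ ee y - c * (ee x ⬝ᵥ ee z) := by
  rw [sub_eq_add_neg, ee_add, ee_neg, ee_smul, dotProduct_add, dotProduct_neg, dotProduct_smul, sub_eq_add_neg,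
    smul_eq_mul]

theorem invD (i : Fin (r + 2)) (y : Fin (r + 2) → ℤ) :
    ee (sr i) ⬝ᵥ ee (sr i) * pairing (A r) i y = 2 * (ee (sr i) ⬝ᵥ ee y) := by
  rw [← Cf_ee, ee_sr, bt, nrm_two (ok_nx i), add_dotProduct, wt_dot, wt_dot, nx, Cf]
  split_ifs <;> simp_all [sub_eq_add_neg]

variable (cs) in
theorem exists_D : ∃ β : {i : Fin (r + 2) // pn i ≠ i} → Fin (r + 2) → ℤ,
    ∀ i, IsRoot cs (isCartan r) (β i) ∧ ee (β i) = fr i.1 := by
  choose β h using fun i : {i : Fin (r + 2) // pn i ≠ i} => rt_of_ok (cs := cs) (a := (i.1, true)) (b := f2 i.1) i.2.symm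
  exact ⟨β, h⟩

/-- **type `D`** -/
theorem all_D (hβ : ∀ i, ee (β i) = fr i.1) : All cs (isCartan r) β := fun x hx => by
  obtain ⟨a, b, h, e⟩ := exists_of_isRoot cs hx
  refine (key h).imp (fun ⟨j, hj, h1⟩ => ⟨⟨j, hj⟩, h1.imp (fun h3 => ee_injective (by rw [e, h3, hβ]))
    fun h3 => ee_injective (by rw [e, h3, ee_neg, hβ])⟩) fun ⟨j, hj, h1⟩ => ⟨⟨j, hj⟩, ?_⟩
  exact od_of_B (B := fun x y => ee x ⬝ᵥ ee y) (fun _ _ => dotProduct_comm _ _) subD invD (by simp only [e, nrm_two h]; decide)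
    (by simp only [e, hβ, nrm_two h, fr_two hj]) (by simp only [e, hβ, nrm_two h]; omega)

end D

end Cfsg.Agent.MK.GO
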