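import Cfsg.Agent.H383.Cube.Num

/-!
# MK, orthogonal rows: the `2`-parts of the Poincaré polynomials (helper19)

`Ed x y` : `x` divides `y` up to an odd factor; `ed_B`, `ed_D`.
-/

set_option autoImplicit false

namespace Cfsg.Agent.MK.GO

open Finset Cfsg.Agent.H383.Cube

/-- `x` divides `y` up to an odd factor -/
def Ed (x y : ℕ) : Prop := ∃ u, Odd u ∧ x ∣ y * u

theorem Ed.of_dvd {x y : ℕ} (h : x ∣ y) : Ed x y := ⟨1, odd_one, by rwa [mul_one]⟩

theorem Ed.rfl' (x : ℕ) : Ed x x := .of_dvd dvd_rfl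

theorem Ed.mul {x y z w : ℕ} (h : Ed x y) (k : Ed z w) : Ed (x * z) (y * w) := by
  obtain ⟨u, hu, h⟩ := h
  obtain ⟨v, hv, k⟩ := k
  exact ⟨u * v, hu.mul hv, by rw [mul_mul_mul_comm]; exact mul_dvd_mul h k⟩

theorem Ed.congr {x y x' y' : ℕ} (h : Ed x y) (e1 : x' = x) (e2 : y' = y) : Ed x' y' := e1 ▸ e2 ▸ h

theorem Ed.of_odd {x : ℕ} (h : Odd x) (y : ℕ) : Ed x y := ⟨x, h, dvd_mul_left _ _⟩

theorem Ed.pow_dvd {x y j : ℕ} (h : Ed x y) (hj : 2 ^ j ∣ x) : 2 ^ j ∣ y := by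
  obtain ⟨u, hu, h⟩ := h
  exact (Nat.Coprime.pow_left j (Nat.coprime_two_left.2 hu)).dvd_of_dvd_mul_right (hj.trans h)

theorem gs_two (c k : ℕ) : ∑ j ∈ range (2 * k), c ^ j = (c + 1) * ∑ j ∈ range k, (c ^ 2) ^ j := by
  induction k with
  | zero => simp
  | succ k ih => rw [mul_add 2, mul_one, sum_range_succ, sum_range_succ, ih, sum_range_succ, ← pow_mul]; ring

theorem gs_odd {c : ℕ} (hc : Odd c) (k : ℕ) : Odd (∑ j ∈ range (2 * k + 1), c ^ j) := by
  rw [sum_range_succ, gs_two]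
  exact (hc.add_one.mul_right _).add_odd hc.pow

theorem sq_mod {c : ℕ} (hc : Odd c) : c ^ 2 % 4 = 1 := by
  obtain ⟨k, rfl⟩ := hc
  rw [show (2 * k + 1) ^ 2 = 1 + 4 * (k ^ 2 + k) by ring, Nat.add_mul_mod_self_left]

theorem ed_two {c : ℕ} (hc : c % 4 = 1) : Ed (c + 1) 2 :=
  ⟨2 * (c / 4) + 1, odd_two_mul_add_one _, dvd_of_eq (by omega)⟩

theorem ed_gs (k : ℕ) : ∀ {c : ℕ}, c % 4 = 1 → Ed (∑ j ∈ range k, c ^ j) k := by
  induction k using Nat.strong_induction_on with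
  | _ k ih =>
    intro c hc
    have h1 : Odd c := Nat.odd_iff.2 (by omega)
    obtain ⟨m, rfl | rfl⟩ := Nat.even_or_odd' k
    · rcases Nat.eq_zero_or_pos m with rfl | h2
      · exact .of_dvd (by simp)
      · rw [gs_two]
        exact (ed_two hc).mul (ih m (by omega) (sq_mod h1))
    · exact .of_odd (gs_odd h1 m) _

theorem ed_even {a : ℕ} (ha : Odd a) (k : ℕ) : Ed (1 + a ^ (2 * k)) 2 := by
  rw [add_comm]
  refine ed_two ?_
  rw [pow_mul, Nat.pow_mod, sq_mod ha]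
  simp

theorem ed_odd {a : ℕ} (ha : Odd a) (k : ℕ) : Ed (1 + a ^ (2 * k + 1)) (a + 1) := by
  have h1 : ∃ u, Odd u ∧ 1 + a ^ (2 * k + 1) = (a + 1) * u := by
    induction k with
    | zero => exact ⟨1, odd_one, by ring⟩
    | succ k ih =>
      obtain ⟨u, hu, h2⟩ := ih
      obtain ⟨c, hc⟩ := ha
      refine ⟨u + 2 * (c * a ^ (2 * k + 1)), hu.add_even (even_two_mul _), ?_⟩
      rw [mul_add (a + 1), ← h2, show 2 * (k + 1) + 1 = 2 * k + 1 + 2 by ring, pow_add a _ 2]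
      generalize a ^ (2 * k + 1) = x
      rw [hc]
      ring
  exact h1.imp fun u h => ⟨h.1, dvd_of_eq h.2⟩

theorem ed_step {a : ℕ} (ha : Odd a) (m e : ℕ) :
    Ed ((∑ j ∈ range (m + 1), a ^ j) * (∑ j ∈ range (m + 2), a ^ j) * ((1 + a ^ e) * (1 + a ^ (e + 1))))
      ((m + 1) * (m + 2) * (a + 1) ^ 2) := by
  have h1 : Ed ((1 + a ^ e) * (1 + a ^ (e + 1))) (2 * (a + 1)) := by
    obtain ⟨k, rfl | rfl⟩ := Nat.even_or_odd' e
    · exact (ed_even ha k).mul (ed_odd ha k)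
    · exact ((ed_odd ha k).mul (ed_even ha (k + 1))).congr rfl (mul_comm _ _)
  have h2 : ∀ k, Ed (∑ j ∈ range (2 * k), a ^ j) ((a + 1) * k) := fun k => by
    rw [gs_two]
    exact (Ed.rfl' _).mul (ed_gs k (sq_mod ha))
  obtain ⟨k, rfl | rfl⟩ := Nat.even_or_odd' m
  · exact (((Ed.of_odd (gs_odd ha k) (2 * k + 1)).mul (h2 (k + 1))).mul h1).congr rfl (by ring)
  · exact (((h2 (k + 1)).mul (Ed.of_odd (gs_odd ha (k + 1)) (2 * k + 3))).mul h1).congr rfl (by ring)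

/-- **types `B_r`, `²D_{r+1}`** -/
theorem ed_B {a : ℕ} (ha : Odd a) (e r : ℕ) :
    Ed (NB a (a ^ e) r * 2 ^ r) (NB 1 1 r * ((a + 1) ^ (2 * (r / 2)) * (a ^ e + 1) ^ (r % 2))) := by
  induction r using Nat.twoStepInduction with
  | zero => exact .of_dvd (by simp [NB])
  | one => exact .of_dvd (dvd_of_eq (by simp [NB]; ring))
  | more r ih _ =>
    refine ((ih.mul (ed_step ha r (r + e))).mul (Ed.rfl' 4)).congr ?_ ?_
    · simp only [NB, prod_range_succ]
      ring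
    · rw [Nat.add_div_right r two_pos, Nat.add_mod_right]
      simp only [NB, prod_range_succ, one_pow, sum_const, card_range, smul_eq_mul]
      ring

/-- **type `D_{r+1}`** -/
theorem ed_D {a : ℕ} (ha : Odd a) (r : ℕ) :
    Ed (ND a (r + 1) * 2 ^ (2 * ((r + 1) / 2))) (ND 1 (r + 1) * (a + 1) ^ (2 * ((r + 1) / 2))) := by
  induction r using Nat.twoStepInduction with
  | zero => exact .of_dvd (by simp [ND])
  | one => exact .of_dvd (dvd_of_eq (by simp [ND, sum_range_succ]; ring))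
  | more r ih _ =>
    refine ((ih.mul (ed_step ha (r + 1) (r + 1))).mul (Ed.rfl' 4)).congr ?_ ?_
    · rw [show r + 2 + 1 = r + 1 + 2 by ring, Nat.add_div_right _ two_pos]
      simp only [ND, Nat.add_sub_cancel, show r + 1 + 2 - 1 = r + 1 + 1 from rfl, prod_range_succ]
      ring
    · rw [show r + 2 + 1 = r + 1 + 2 by ring, Nat.add_div_right _ two_pos]
      simp only [ND, Nat.add_sub_cancel, show r + 1 + 2 - 1 = r + 1 + 1 from rfl, prod_range_succ, one_pow, sum_const,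
        card_range, smul_eq_mul]
      ring

end Cfsg.Agent.MK.GO
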