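import Cfsg.Agent.MK.GO.Crd
import Cfsg.Agent.MK.GO.Num
import Cfsg.Agent.MK.G.Count
import Cfsg.Agent.H383.Cube.Fam
import Cfsg.Agent.H35.Poin
import Cfsg.Agent.Nodes.CardWitt
import Cfsg.Agent.Nodes.WittRGDD

/-!
# MK, orthogonal rows: the frame in a Witt model (helper19)

`GQ` (the root groups), `gq_comm`, `f1_of`, `hord_of`; `gd_C`, `gd_D`.
-/

set_option autoImplicit false
set_option linter.unusedSectionVars false

namespace Cfsg.Agent.MK.GO

open CoxeterSystem Cfsg.Agent.ChevalleyStructure.CoxeterGeom Cfsg.Agent.Tits.Roots Cfsg.Agent.Nodes.Reps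
  Cfsg.Agent.Nodes.BNOf Cfsg.Agent.Nodes.Bruhat Cfsg.Agent.Nodes Cfsg.Agent.MK.G Cfsg.Agent.ODD.QB
  Cfsg.Agent.H383.Cube Cfsg.Agent.Nodes.NormalForm
open Cfsg.Agent.TitsThree.Siegel Cfsg.Agent.TitsThree.WittFrame Cfsg.Agent.TitsThree.WittWeyl
open Cfsg.Agent.Nodes.WittRoot (XG ZG PG PG_self PG_ne XG_swap)
open Cfsg.Agent.Nodes.TypeC (wt ng wt_ng)

section witt

variable {F : Type} [Field F] {V : Type} [AddCommGroup V] [Module F V] {H : HForm F V} {r : ℕ} (Fr : Frame H (Fin r))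

theorem card_ZG (a : Fin r × Bool) : Nat.card (ZG Fr a) = Nat.card Fr.Adm := by
  symm
  refine Nat.card_congr (Equiv.ofBijective (fun t : Fr.Adm => (⟨Fr.Z a t, t, rfl⟩ : ZG Fr a)) ⟨?_, ?_⟩)
  · intro q q' e0
    have e : Fr.Z a q = Fr.Z a q' := congrArg Subtype.val e0
    have e1 := Z_apply_neg Fr a q
    rw [e, Z_apply_neg Fr a q', add_assoc, add_assoc] at e1
    have e2 := add_left_cancel e1
    have e3 := congrArg (fun v => H.h (Fr.b (neg a)) v) e2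
    simp only [H.add_right, H.smul_right, Fr.hb_neg_self, Fr.h0 _ _ (Fr.ok_mem q.ok), Fr.h0 _ _ (Fr.ok_mem q'.ok),
      mul_zero, zero_add] at e3
    have h0 := Fr.η_ne a
    have e5 : q'.c * Fr.η a = q.c * Fr.η a := H.σ.injective (mul_right_cancel₀ h0 e3)
    rw [e5] at e2
    exact Frame.Adm.ext (smul_right_injective _ h0 (add_right_cancel e2)).symm (mul_right_cancel₀ h0 e5).symm
  · rintro ⟨_, t, rfl⟩
    exact ⟨t, rfl⟩

/-- a sign -/
def sv (s : Bool) (x : Fin r × Bool) : Fin r × Bool := if s then x else ng x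

theorem sv_fst (s : Bool) (x : Fin r × Bool) : (sv s x).1 = x.1 := by cases s <;> rfl

/-- the root groups of the frame -/
def GV (s : Bool) (i : Fin r) : Subgroup (V ≃ₗ[F] V) := PG Fr (sv s (i, true)) (sv s (f2 i))

theorem GV_X (s : Bool) {i : Fin r} (hi : pn i ≠ i) : GV Fr s i = XG Fr (sv s (i, true)) (sv s (f2 i)) :=
  PG_ne Fr (by rw [sv_fst, sv_fst]; exact hi.symm)

theorem GV_Z (s : Bool) {i : Fin r} (hi : pn i = i) : GV Fr s i = ZG Fr (sv s (i, true)) := by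
  rw [GV, f2_self hi, PG_self]

variable (hσ : ∀ x, H.σ x = x) (hε : H.ε = 1)

include hσ hε

theorem comm_same {a b : Fin r × Bool} (h : a.1 ≠ b.1) : ∀ u ∈ XG Fr a b, ∀ v ∈ XG Fr a (ng b), Commute u v := by
  rintro _ ⟨s, rfl⟩ _ ⟨t, rfl⟩
  have h1 := Fr.X_mul_X_same h s t
  rwa [show Frame.Adm.tr (H.σ s * t * (Fr.η (neg b))⁻¹) = (1 : Fr.Adm) from
    Frame.Adm.ext rfl (by rw [Frame.Adm.tr_c, hε, hσ (_ * _), inv_one, one_mul, sub_self]; rfl), Fr.Z_one, one_mul] at h1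

theorem gv_comm {s t : Bool} {i j : Fin r} (h : i ≠ j ∨ s = t) : ∀ u ∈ GV Fr s i, ∀ v ∈ GV Fr t j, Commute u v := by
  have h0 : ∀ {s t : Bool} {x y : Fin r × Bool}, x.1 ≠ y.1 → sv s x ≠ neg (sv t y) := fun {s t x y} h1 h2 =>
    h1 ((sv_fst s x).symm.trans ((congrArg Prod.fst h2).trans (sv_fst t y)))
  have hZ : ∀ {s t : Bool} {i j : Fin r}, pn i = i → pn j ≠ j → ∀ u ∈ GV Fr s i, ∀ v ∈ GV Fr t j, Commute u v := by
    intro s t i j hi hj
    rw [GV_Z Fr s hi, GV_X Fr t hj]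
    rintro _ ⟨q, rfl⟩ _ ⟨x, rfl⟩
    have h1 : j ≠ i := fun h => hj (h ▸ hi)
    exact Fr.commute_ZX (h0 h1) (h0 fun h => h1 (by rw [← pn_pn j, show pn j = i from h, hi])) _ _
  by_cases hij : i = j
  · subst hij
    obtain rfl := h.resolve_left fun h => h rfl
    by_cases hi : pn i = i
    · rw [GV_Z Fr s hi]
      rintro _ ⟨q, rfl⟩ _ ⟨x, rfl⟩
      rw [Commute, SemiconjBy, ← Fr.Z_mul, ← Fr.Z_mul]
      congr 1
      exact Frame.Adm.ext (add_comm _ _) (by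
        rw [Frame.Adm.mul_c, Frame.Adm.mul_c, H.swap q.w, hσ, hε, one_mul, add_comm])
    · rw [GV_X Fr s hi]
      rintro _ ⟨q, rfl⟩ _ ⟨x, rfl⟩
      rw [Commute, SemiconjBy, ← Fr.X_add, ← Fr.X_add, add_comm]
  by_cases hi : pn i = i
  · exact hZ hi fun hj => hij (pn_uniq hi hj)
  by_cases hj : pn j = j
  · exact fun u hu v hv => (hZ hj hi v hv u hu).symm
  rw [GV_X Fr s hi, GV_X Fr t hj]
  by_cases h1 : pn i = j
  · subst h1
    have h2 : (sv s (i, true)).1 ≠ (sv s (f2 i)).1 := by rw [sv_fst, sv_fst]; exact Ne.symm hi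
    have h3 : (sv t (pn i, true) = ng (sv s (f2 i)) ∧ sv t (f2 (pn i)) = sv s (i, true)) ∨
        (sv t (pn i, true) = sv s (f2 i) ∧ sv t (f2 (pn i)) = ng (sv s (i, true))) := by
      have h4 := pn_par hi
      by_cases h5 : (i : ℕ) % 2 = 0 <;> cases s <;> cases t <;> simp [sv, f2, ng, pn_pn, h4, h5]
    rcases h3 with ⟨h3, h4⟩ | ⟨h3, h4⟩
    · rw [h3, h4, XG_swap Fr (a := ng _) h2.symm]
      exact comm_same Fr hσ hε h2
    · rw [h3, h4, XG_swap Fr h2]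
      exact comm_same Fr hσ hε h2.symm
  · rintro _ ⟨q, rfl⟩ _ ⟨x, rfl⟩
    exact Fr.commute_XX (h0 (Ne.symm hij)) (h0 (Ne.symm h1)) (h0 fun h => h1 (by rw [← show pn j = i from h, pn_pn]))
      (h0 fun h => hij (by rw [← pn_pn i, ← show pn j = pn i from h, pn_pn])) _ _

end witt

theorem comm_sup {G : Type} [Group G] {A B C : Subgroup G} (h1 : ∀ a ∈ A, ∀ c ∈ C, Commute a c)
    (h2 : ∀ a ∈ B, ∀ c ∈ C, Commute a c) : ∀ c ∈ C, ∀ a ∈ A ⊔ B, Commute c a := fun c hc _ ha =>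
  (Subgroup.mem_centralizer_singleton_iff.1 ((sup_le (fun a ha => Subgroup.mem_centralizer_singleton_iff.2 (h1 a ha c hc))
    (fun a ha => Subgroup.mem_centralizer_singleton_iff.2 (h2 a ha c hc)) : A ⊔ B ≤ Subgroup.centralizer {c}) ha)).symm

section gen

variable {I W Y ι : Type} [Fintype I] [DecidableEq I] [Group W] [Finite W] [Group Y] [Finite Y] [Fintype ι]
  {M : CoxeterMatrix I} {cs : CoxeterSystem M W} {A : I → I → ℤ} {h : IsCartan M A} {p : ℕ} {T : Subgroup Y}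
  {n : I → Y} {X : (I → ℤ) → Subgroup Y} {β : ι → I → ℤ} (R : RGD cs h p T n X)

theorem f1_of (hp : p.Prime) (hp2 : p ≠ 2) (hG : GG cs h T X = ⊤) (hr : ∀ a, IsRoot cs h (β a))
    {G : Bool → ι → Subgroup Y} (h1 : ∀ a, X (β a) = G true a) (h2 : ∀ a, X (-β a) = G false a)
    (hc : ∀ s t a b, a ≠ b ∨ s = t → ∀ u ∈ G s a, ∀ v ∈ G t b, Commute u v) : F1 R β := by
  refine f1_of_LC hp hp2 hG hr (fun a b hab => ?_) fun a => by rw [h1]; exact hc _ _ a a (Or.inr rfl)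
  rw [ClosedExc.Frame.LC, FreeTorus.LL, FreeTorus.LL, h1, h1, h2, h2]
  exact comm_sup (comm_sup (hc _ _ _ _ (Or.inl hab)) (hc _ _ _ _ (Or.inl hab)))
    (comm_sup (hc _ _ _ _ (Or.inl hab)) (hc _ _ _ _ (Or.inl hab)))

include R in
theorem hord_of [Fintype W] (hp : p.Prime) (hp2 : p ≠ 2) (hG : GG cs h T X = ⊤) {k P : ℕ}
    (H : Ed ((∑ w : W, Nat.card ↥(RGD.Sup X (NW cs h w))) * 2 ^ k) (Nat.card W * P)) (j : ℕ) (hj : 2 ^ j ∣ Nat.card Y) :
    2 ^ (j + k) ∣ Nat.card T * Nat.card W * P := by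
  rw [card_eq R hG, H35.Poin.card_B' R] at hj
  refine Ed.pow_dvd (((Ed.of_odd (odd_U R hp hp2) 1).mul ((Ed.rfl' (Nat.card T)).mul H)).congr rfl (by ring)) ?_
  rw [pow_add]
  exact (mul_dvd_mul hj dvd_rfl).trans (dvd_of_eq (by ring))

end gen

theorem card_ne (r : ℕ) : Fintype.card {i : Fin r // pn i ≠ i} = 2 * (r / 2) := by
  rw [Fintype.card_subtype_compl, Fintype.card_fin]
  obtain ⟨k, rfl | rfl⟩ := Nat.even_or_odd' r
  · rw [Fintype.card_eq_zero_iff.2 ⟨fun i => by have := pn_eq_iff.1 i.2; omega⟩]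
    omega
  · rw [(Fintype.card_eq_one_iff (α := {x : Fin (2 * k + 1) // pn x = x})).2
      ⟨⟨Fin.last _, pn_eq_iff.2 (by simp)⟩, fun i => Subtype.ext (pn_uniq i.2 (pn_eq_iff.2 (by simp)))⟩]
    omega

theorem prod_pn (r x y : ℕ) : ∏ i : Fin r, (if pn i = i then y else x) = x ^ (2 * (r / 2)) * y ^ (r % 2) := by
  have h1 := card_ne r
  have h2 := Finset.card_filter_add_card_filter_not (s := Finset.univ) fun i : Fin r => pn i = i
  rw [Fintype.card_subtype] at h1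
  rw [h1, Finset.card_univ, Fintype.card_fin] at h2
  rw [Finset.prod_ite, Finset.prod_const, Finset.prod_const, h1, mul_comm]
  congr 2
  omega

variable {W Y : Type} [Group W] [Finite W] [Group Y] [Finite Y] [IsSimpleGroup Y] {p : ℕ} {T : Subgroup Y}
  {F : Type} [Field F] [Finite F] {V : Type} [AddCommGroup V] [Module F V] {H : HForm F V} {G0 : Subgroup (V ≃ₗ[F] V)}
  {φ : G0 →* Y}

theorem comm_map {K L : Subgroup (V ≃ₗ[F] V)} (h : ∀ u ∈ K, ∀ v ∈ L, Commute u v) :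
    ∀ u ∈ (K.subgroupOf G0).map φ, ∀ v ∈ (L.subgroupOf G0).map φ, Commute u v := by
  rintro _ ⟨u, hu, rfl⟩ _ ⟨v, hv, rfl⟩
  exact Commute.map (Subtype.ext (h _ hu _ hv).eq) φ

variable (hp : p.Prime) (hp2 : p ≠ 2) (hF : Odd (Nat.card F)) (hσ : ∀ x, H.σ x = x) (hε : H.ε = 1)
  (hs : ∀ Q : Sylow 2 Y, Subgroup.normalizer ((Q : Subgroup Y) : Set Y) ≤ Q)

include hp hp2 hF hσ hε hs

section C

open Cfsg.Agent.Nodes.TypeC Cfsg.Agent.Nodes.WittRoot

/-- **types `B_r`, `²D_{r+1}`** -/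
theorem gd_C {r : ℕ} (hr : 3 ≤ r) {Fr : Frame H (Fin r)} {cs : CoxeterSystem (CoxeterMatrix.B r) W} {n : Fin r → Y}
    (R : RGD cs (isCartan r) p T n fun x => ((rg Fr x).subgroupOf G0).map φ)
    (hG : GG cs (isCartan r) T (fun x => ((rg Fr x).subgroupOf G0).map φ) = ⊤)
    (hX : ∀ x, IsRoot cs (isCartan r) x → Nat.card (((rg Fr x).subgroupOf G0).map φ) = Nat.card (rg Fr x))
    {e : ℕ} (he : Nat.card Fr.Adm = Nat.card F ^ e) : ∃ β : Fin r → Fin r → ℤ, GD R β ∧ Au R β ⊤ := by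
  have : Fintype W := Fintype.ofFinite W
  obtain ⟨β, hβ⟩ := exists_C cs
  have h1 : ∀ i, rg Fr (β i) = GV Fr true i := fun i => rg_eq Fr (ok_fr i) (hβ i).2
  have h2 : ∀ i, rg Fr (-β i) = GV Fr false i := fun i =>
    rg_eq Fr (ok_fr i).ng (by rw [ee_neg, (hβ i).2, fr, neg_add, ← wt_ng, ← wt_ng]; rfl)
  have hc := fun s t a b h => comm_map (φ := φ) (gv_comm Fr hσ hε (s := s) (t := t) (i := a) (j := b) h)
  have F1 := f1_of R hp hp2 hG (fun i => (hβ i).1) (fun i => by simp only [h1]) (fun i => by simp only [h2]) hc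
  have hW := weyl_C F1 fun i => (hβ i).2
  refine ⟨β, F1.gd hW (syl_of_self (F1.odd_MM hW (hord_of R hp hp2 hG ?_)) hs)
    (F1.ne_of_two (a := ⟨0, by omega⟩) (b := ⟨1, by omega⟩) (by simp)),
    au_of_rigid F1.root fun σ => H461.CoxB.perm_eq_one hr⟩
  rw [H461.CoxB.sum_B cs (Nat.card F) (Nat.card F ^ e) _ (card_one R) fun w i hl => ?_, Nat.card_eq_fintype_card (α := W),
    H461.CoxB.card_W cs, Fintype.card_fin]
  · refine (ed_B hF e r).congr rfl ?_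
    rw [← prod_pn]
    refine congrArg _ (Finset.prod_congr rfl fun i _ => ?_)
    rw [zc_eq (by simp only [h1]; exact hc _ _ i i (Or.inr rfl)), hX _ (hβ i).1, h1]
    split_ifs with hi
    · rw [GV_Z Fr _ hi, card_ZG, he]
    · rw [GV_X Fr _ hi, CardWitt.card_XG Fr (by rw [sv_fst, sv_fst]; exact Ne.symm hi)]
  · rw [card_step R w i hl, hX _ (isRoot_sr _ _ i), WittRGD.rg_sr, nx]
    split_ifs with hi
    · have h3 : ((i, true) : Fin r × Bool).1 ≠ ((⟨i + 1, hi⟩, false) : Fin r × Bool).1 := by simp [Fin.ext_iff]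
      rw [PG_ne Fr h3, CardWitt.card_XG Fr h3]
    · rw [PG_self, card_ZG, he]

end C

section D

open Cfsg.Agent.Nodes.TypeD Cfsg.Agent.Nodes.WittRGDD

/-- **type `D_{r+2}`** -/
theorem gd_D {r : ℕ} {Fr : Frame H (Fin (r + 2))} {cs : CoxeterSystem (M r) W} {n : Fin (r + 2) → Y}
    (R : RGD cs (isCartan r) p T n fun x => ((rg Fr x).subgroupOf G0).map φ)
    (hG : GG cs (isCartan r) T (fun x => ((rg Fr x).subgroupOf G0).map φ) = ⊤)
    (hX : ∀ x, IsRoot cs (isCartan r) x → Nat.card (((rg Fr x).subgroupOf G0).map φ) = Nat.card (rg Fr x)) :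
    ∃ β : {i : Fin (r + 2) // pn i ≠ i} → Fin (r + 2) → ℤ, GD R β ∧ Au R β ⊤ := by
  have : Fintype W := Fintype.ofFinite W
  obtain ⟨β, hβ⟩ := exists_D cs
  have h1 : ∀ i, rg Fr (β i) = GV Fr true i.1 := fun i => by
    rw [GV_X Fr _ i.2]
    exact rg_eq Fr i.2.symm (hβ i).2
  have h2 : ∀ i, rg Fr (-β i) = GV Fr false i.1 := fun i => by
    rw [GV_X Fr _ i.2]
    exact rg_eq Fr i.2.symm (by rw [ee_neg, (hβ i).2, fr, neg_add, ← wt_ng, ← wt_ng]; rfl)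
  have hc := fun s t (a b : {i : Fin (r + 2) // pn i ≠ i}) (h : a ≠ b ∨ s = t) =>
    comm_map (φ := φ) (gv_comm Fr hσ hε (s := s) (t := t) (h.imp_left Subtype.coe_ne_coe.2))
  have F1 := f1_of R hp hp2 hG (fun i => (hβ i).1) (fun i => by simp only [h1]) (fun i => by simp only [h2]) hc
  have hA := all_D (cs := cs) fun i => (hβ i).2
  have hW := F1.weyl_of_all hA
  have h3 : ∀ x, IsRoot cs (isCartan r) x → Nat.card (((rg Fr x).subgroupOf G0).map φ) = Nat.card F := fun x hx => by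
    obtain ⟨a, b, h, e⟩ := exists_of_isRoot cs hx
    rw [hX x hx, rg_eq Fr h e, CardWitt.card_XG Fr h]
  refine ⟨β, F1.gd hW (syl_of_self (F1.odd_MM hW (hord_of R hp hp2 hG ?_)) hs)
    (F1.ne_of_two (a := ⟨0, by simp [pn_eq_iff]⟩) (b := ⟨1, by simp [pn_eq_iff]⟩) (by simp)), F1.au_of_all hA⟩
  have h4 := H475.CoxD.sum_D cs 1
  simp only [one_pow, Finset.sum_const, smul_eq_mul, mul_one, Finset.card_univ] at h4
  rw [Finset.sum_congr rfl fun w _ => card_eq_pow R (fun i => h3 _ (isRoot_sr _ _ i)) w, H475.CoxD.sum_D,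
    Nat.card_eq_fintype_card (α := W), h4, Finset.prod_congr rfl fun i _ => by
      rw [zc_eq (by simp only [h1]; exact hc _ _ i i (Or.inr rfl)), h3 _ (hβ i).1],
    Finset.prod_const, Finset.card_univ, card_ne]
  exact ed_D hF (r + 1)

end D

end Cfsg.Agent.MK.GO
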